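import Groth.Agent.S3701
import Groth.Agent.S0388
import Groth.Agent.S3694
import Groth.Agent.Lib.FEtEq25.Graph
import Groth.Agent.Lib.AVCov25.Connected
import Mathlib.CategoryTheory.Monoidal.Cartesian.Over

/-!
# Lifting maps through finite étale covers in a proper family with a section

Let `T/S` be proper, flat, with smooth connected geometric fibres and a section `t`. A map `g : T ⟶ X`
lifts uniquely through a finite étale `f : Y ⟶ X` with prescribed value along `t` as soon as it does
so on every geometric fibre: the Stein factor of `T ×_X Y ⟶ S` is finite étale, hence the union of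
the components through the given section is clopen and maps isomorphically to `T`.
-/

open CategoryTheory Limits AlgebraicGeometry MonoidalCategory CartesianMonoidalCategory TopologicalSpace

set_option linter.style.haveILetI false
set_option backward.isDefEq.respectTransparency false

namespace Groth.Agent.CoverGrp25

universe u

/-- A clopen of a family with connected fibres and a section meets the section. -/
theorem inter_range_section {T S : Scheme.{u}} (p : T ⟶ S) [GeometricallyConnected p] (t : S ⟶ T)
    (ht : t ≫ p = 𝟙 S) (C : Set T) (hC : IsClopen C) (hne : C.Nonempty) :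
    (C ∩ Set.range t).Nonempty := by
  obtain ⟨x, hx⟩ := hne
  haveI : ConnectedSpace ↥(p ⁻¹' {p x}) :=
    (p.fiberHomeo (p x)).surjective.connectedSpace (p.fiberHomeo (p x)).continuous
  have hc : _root_.IsConnected (p ⁻¹' {p x}) := isConnected_iff_connectedSpace.2 inferInstance
  have hsub := hc.isPreconnected.subset_isClopen hC ⟨x, rfl, hx⟩
  have hmem : t (p x) ∈ p ⁻¹' {p x} := by
    show p (t (p x)) = p x
    rw [← Scheme.Hom.comp_apply, ht]
    rfl
  exact ⟨t (p x), hsub hmem, p x, rfl⟩

/-- Maps into a finite étale cover from a family with connected fibres are determined by the composite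
and the value along a section. -/
theorem eq_of_section {S : Scheme.{u}} {T Y X : Over S} [GeometricallyConnected T.hom] (f : Y ⟶ X)
    [IsFinite f.left] [Etale f.left] (a b : T ⟶ Y) (h : a ≫ f = b ≫ f) (t : 𝟙_ (Over S) ⟶ T)
    (ht : t ≫ a = t ≫ b) : a = b := by
  have hl : a.left ≫ f.left = b.left ≫ f.left := congrArg (fun z => z.left) h
  refine Over.OverMorphism.ext (FEtEq25.eq_of_eqLocusSet f.left a.left b.left hl fun x => ?_)
  by_contra hx
  obtain ⟨_, hy, s, rfl⟩ := inter_range_section T.hom t.left (Over.w t) _
    (FEtEq25.isClopen_eqLocusSet f.left a.left b.left hl).compl ⟨x, hx⟩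
  obtain ⟨K, _, _, g0, hg0⟩ := FEtEq25.exists_geomPoint (W := S) s
  have htl : t.left ≫ a.left = t.left ≫ b.left := congrArg (fun z => z.left) ht
  have := FEtEq25.mem_eqLocusSet_of_eq f.left a.left b.left hl (g0 ≫ t.left)
    (by rw [Category.assoc, Category.assoc, htl])
  rw [Scheme.Hom.comp_apply, hg0] at this
  exact hy this

/-- Lifts through a finite étale cover exist if they exist on all geometric fibres. -/
theorem exists_lift_of_fibres {S : Scheme.{u}} {T Y X : Over S} (f : Y ⟶ X) [IsFinite f.left]
    [Etale f.left] [IsProper T.hom] [Flat T.hom] [LocallyOfFinitePresentation T.hom]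
    [GeometricallyConnected T.hom] (g : T ⟶ X) (t : 𝟙_ (Over S) ⟶ T) (y0 : 𝟙_ (Over S) ⟶ Y)
    (h0 : y0 ≫ f = t ≫ g)
    (hsm : ∀ (K : Type u) [Field K] [IsAlgClosed K] (σ : Spec (CommRingCat.of K) ⟶ S),
      Smooth ((Over.pullback σ).obj T).hom)
    (hloc : ∀ (K : Type u) [Field K] [IsAlgClosed K] (σ : Spec (CommRingCat.of K) ⟶ S),
      ∃ ℓ : (Over.pullback σ).obj T ⟶ (Over.pullback σ).obj Y,
        ℓ ≫ (Over.pullback σ).map f = (Over.pullback σ).map g ∧
          (Over.pullback σ).map t ≫ ℓ = (Over.pullback σ).map y0) :
    ∃ m : T ⟶ Y, m ≫ f = g ∧ t ≫ m = y0 := by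
  let W := pullback g.left f.left
  let π : W ⟶ T.left := pullback.fst g.left f.left
  haveI : IsFinite π := MorphismProperty.pullback_fst _ _ ‹IsFinite f.left›
  haveI : Etale π := MorphismProperty.pullback_fst _ _ ‹Etale f.left›
  let h : W ⟶ S := π ≫ T.hom
  haveI : IsProper h := inferInstanceAs (IsProper (π ≫ T.hom))
  haveI : Flat h := inferInstanceAs (Flat (π ≫ T.hom))
  haveI : LocallyOfFinitePresentation h := inferInstanceAs (LocallyOfFinitePresentation (π ≫ T.hom))
  obtain ⟨hfin, het⟩ := Groth.Agent.S3701.result h (fun K _ _ σ => by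
    haveI : Smooth (pullback.snd T.hom σ) := hsm K σ
    haveI : Etale (pullback.snd π (pullback.fst T.hom σ)) := inferInstance
    haveI : IsReduced (pullback π (pullback.fst T.hom σ)) :=
      AbRigid.isReduced_of_smooth_over_field
        (pullback.snd π (pullback.fst T.hom σ) ≫ pullback.snd T.hom σ)
    exact isReduced_of_isOpenImmersion (pullbackRightPullbackFstIso T.hom σ π).inv)
  haveI : GeometricallyConnected h.toNormalization := (Groth.Agent.S0388.result h).1
  let q : W ⟶ h.normalization := h.toNormalization
  let e : h.normalization ⟶ S := h.fromNormalization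
  have hqe : q ≫ e = h := h.toNormalization_fromNormalization
  have htl : t.left ≫ T.hom = 𝟙 S := Over.w t
  -- the section of the Stein factor
  let w0 : S ⟶ W := pullback.lift t.left y0.left (congrArg (fun z => z.left) h0).symm
  have hw0π : w0 ≫ π = t.left := pullback.lift_fst _ _ _
  have hw0h : w0 ≫ h = 𝟙 S := by show w0 ≫ π ≫ T.hom = _; rw [reassoc_of% hw0π, htl]
  let σ' : S ⟶ h.normalization := w0 ≫ q
  have hσ' : σ' ≫ e = 𝟙 S := by simp only [σ', Category.assoc, hqe, hw0h]
  haveI : IsFinite e := hfin
  haveI : Etale e := het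
  haveI : IsFinite σ' :=
    haveI : IsFinite (σ' ≫ e) := by rw [hσ']; infer_instance
    IsFinite.of_comp σ' e
  haveI : Etale σ' :=
    haveI : Etale (σ' ≫ e) := by rw [hσ']; infer_instance
    Etale.of_comp σ' e
  haveI : Mono σ' := mono_of_mono_fac hσ'
  haveI : UniversallyInjective σ' := inferInstance
  haveI : IsOpenImmersion σ' := Groth.Agent.S3694.result σ'
  have hrσ : IsClopen (Set.range σ') := by
    rw [← Set.image_univ]; exact FEtEq25.isClopen_image σ' isClopen_univ
  -- the components through the section
  let D : W.Opens := ⟨q ⁻¹' Set.range σ', hrσ.2.preimage q.continuous⟩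
  have hDc : IsClosed (D : Set W) := hrσ.1.preimage q.continuous
  let W' : FEt.Cat T.left := MorphismProperty.Over.mk ⊤ π ⟨inferInstance, inferInstance⟩
  let oD : FEt.Cat T.left := FEtEq25.openCover' W' D hDc
  let I : FEt.Cat T.left := MorphismProperty.Over.mk ⊤ (𝟙 T.left) ⟨inferInstance, inferInstance⟩
  let r : oD ⟶ I := MorphismProperty.Over.homMk (D.ι ≫ π) (Category.comp_id _)
  have hk : Set.range w0 ⊆ Set.range D.ι := by
    rintro _ ⟨s, rfl⟩
    rw [Scheme.Opens.range_ι]
    exact ⟨s, (Scheme.Hom.comp_apply w0 q s).symm ▸ rfl⟩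
  let k : S ⟶ (D : Scheme.{u}) := IsOpenImmersion.lift D.ι w0 hk
  have hkι : k ≫ D.ι = w0 := IsOpenImmersion.lift_fac _ _ _
  haveI : IsIso r := by
    refine FEtEq25.isIso_of_bijective_fibres_on r (Set.range t.left)
      (fun C hC hne => inter_range_section T.hom t.left htl C hC hne) ?_
    rintro _ ⟨s, rfl⟩
    obtain ⟨K, _, _, g0, hg0⟩ := FEtEq25.exists_geomPoint (W := S) s
    refine ⟨K, inferInstance, inferInstance, g0 ≫ t.left, (Scheme.Hom.comp_apply _ _ _).trans (congrArg t.left (hg0 _)), ?_, ?_⟩
    · -- at most one point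
      have key : ∀ c : Spec (CommRingCat.of K) ⟶ (D : Scheme.{u}),
          c ≫ D.ι ≫ π = g0 ≫ t.left → c ≫ D.ι = g0 ≫ w0 := by
        intro c hc
        let d := c ≫ D.ι
        have hdπ : d ≫ π = g0 ≫ t.left := by simp only [d, Category.assoc, hc]
        have hdh : d ≫ h = g0 := by
          show d ≫ π ≫ T.hom = _
          rw [reassoc_of% hdπ, htl, Category.comp_id]
        have hr : Set.range (d ≫ q) ⊆ Set.range σ' := by
          rintro _ ⟨y, rfl⟩
          exact (c y).2
        have hdq : d ≫ q = g0 ≫ σ' := by
          have hl := IsOpenImmersion.lift_fac σ' (d ≫ q) hr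
          have : IsOpenImmersion.lift σ' (d ≫ q) hr = g0 := by
            have := congrArg (· ≫ e) hl
            simpa only [Category.assoc, hσ', Category.comp_id, hqe, hdh] using this
          rw [← hl, this]
        obtain ⟨ℓ, hℓf, hℓt⟩ := hloc K g0
        let y := g0 ≫ σ'
        let u := pullback.fst q y
        let Z := pullback q y
        haveI : GeometricallyConnected (pullback.snd q y) := inferInstance
        haveI : Nonempty ↥(Spec (CommRingCat.of K)) := ⟨IsLocalRing.closedPoint K⟩
        haveI : ConnectedSpace ↥(pullback q y) :=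
          GeometricallyConnected.connectedSpace_of_subsingleton (pullback.snd q y)
        have huh : (u ≫ π) ≫ T.hom = pullback.snd q y ≫ g0 := by
          rw [Category.assoc]
          show u ≫ h = _
          refine (congrArg (u ≫ ·) hqe).symm.trans ?_
          simp only [u, y, pullback.condition_assoc, Category.assoc, hσ', Category.comp_id]
        let pT : Z ⟶ pullback T.hom g0 := pullback.lift (u ≫ π) (pullback.snd q y) huh
        have hℓ : ℓ.left ≫ pullback.fst Y.hom g0 ≫ f.left = pullback.fst T.hom g0 ≫ g.left := by
          have := congrArg (fun z => z.left ≫ pullback.fst X.hom g0) hℓf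
          simpa using this
        let v : Z ⟶ W := pullback.lift (u ≫ π) (pT ≫ ℓ.left ≫ pullback.fst Y.hom g0) (by
          simp only [Category.assoc, hℓ, pT, pullback.lift_fst_assoc])
        let a : Spec (CommRingCat.of K) ⟶ Z := pullback.lift d (𝟙 _) (by rw [hdq, Category.id_comp])
        let b : Spec (CommRingCat.of K) ⟶ Z :=
          pullback.lift (g0 ≫ w0) (𝟙 _) (by rw [Category.assoc, Category.id_comp])
        let pt : Spec (CommRingCat.of K) ⟶ pullback T.hom g0 :=
          pullback.lift (g0 ≫ t.left) (𝟙 _) (by rw [Category.assoc, htl, Category.comp_id,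
            Category.id_comp])
        have hapT : a ≫ pT = pt := by
          apply pullback.hom_ext
          · simp only [Category.assoc, pT, pt, pullback.lift_fst, a, u, pullback.lift_fst_assoc, hdπ]
          · simp only [Category.assoc, pT, pt, pullback.lift_snd, a]
        have hbpT : b ≫ pT = pt := by
          apply pullback.hom_ext
          · simp only [Category.assoc, pT, pt, pullback.lift_fst, b, u, pullback.lift_fst_assoc, hw0π]
          · simp only [Category.assoc, pT, pt, pullback.lift_snd, b]
        have hpt : pt ≫ ℓ.left ≫ pullback.fst Y.hom g0 = g0 ≫ y0.left := by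
          let o : Spec (CommRingCat.of K) ⟶ ((Over.pullback g0).obj (𝟙_ (Over S))).left :=
            pullback.lift g0 (𝟙 _) ((Category.comp_id g0).trans (Category.id_comp g0).symm)
          have h1 := congrArg (fun z => o ≫ z.left ≫ pullback.fst Y.hom g0) hℓt
          have h2 : o ≫ ((Over.pullback g0).map t).left = pt := by
            apply pullback.hom_ext <;> simp [o, pt]
          have h3 : o ≫ ((Over.pullback g0).map y0).left ≫ pullback.fst Y.hom g0 = g0 ≫ y0.left := by
            simp [o]
          simp only [Over.comp_left, Category.assoc, reassoc_of% h2, h3] at h1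
          exact h1
        have huv : u = v := by
          refine AVCov25.eq_of_agree π u v (pullback.lift_fst _ _ _).symm b ?_
          rw [pullback.lift_fst]
          apply pullback.hom_ext
          · simp only [Category.assoc, v, pullback.lift_fst, b, u, pullback.lift_fst_assoc]
            rfl
          · simp only [Category.assoc, v, pullback.lift_snd, reassoc_of% hbpT, hpt, w0]
        have ha : a ≫ u = d := pullback.lift_fst _ _ _
        show d = g0 ≫ w0
        rw [← ha, huv]
        apply pullback.hom_ext
        · simp only [Category.assoc, v, pullback.lift_fst, a, u, pullback.lift_fst_assoc]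
          rw [hdπ]
          exact congrArg (g0 ≫ ·) hw0π.symm
        · simp only [Category.assoc, v, pullback.lift_snd, reassoc_of% hapT, hpt, w0]
      rintro ⟨c, hc⟩ ⟨c', hc'⟩ _
      refine Subtype.ext ?_
      show c = c'
      exact (cancel_mono D.ι).1 ((key c hc).trans (key c' hc').symm)
    · rintro ⟨s', hs'⟩
      have hv : (g0 ≫ k) ≫ D.ι ≫ π = g0 ≫ t.left := by
        rw [Category.assoc, reassoc_of% hkι, hw0π]
      refine ⟨⟨g0 ≫ k, hv⟩, Subtype.ext ?_⟩
      show (g0 ≫ k) ≫ D.ι ≫ π = s'
      exact hv.trans (hs'.symm.trans (Category.comp_id _))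
  let ri : T.left ⟶ (D : Scheme.{u}) := (inv r).left
  have h1 : ri ≫ D.ι ≫ π = 𝟙 _ := congrArg (fun z => z.left) (IsIso.inv_hom_id r)
  have h2 : (D.ι ≫ π) ≫ ri = 𝟙 _ := congrArg (fun z => z.left) (IsIso.hom_inv_id r)
  refine ⟨Over.homMk (ri ≫ D.ι ≫ pullback.snd g.left f.left) ?_, ?_, ?_⟩
  · rw [Category.assoc, Category.assoc, ← Over.w f, ← pullback.condition_assoc, Over.w g]
    exact (Category.assoc _ _ _).symm.trans ((Category.assoc _ _ _).symm.trans
      (by rw [show ((ri ≫ D.ι) ≫ π) = 𝟙 _ by rw [Category.assoc]; exact h1, Category.id_comp]))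
  · apply Over.OverMorphism.ext
    show (ri ≫ D.ι ≫ pullback.snd g.left f.left) ≫ f.left = g.left
    simp only [Category.assoc, ← pullback.condition]
    show ri ≫ D.ι ≫ π ≫ g.left = g.left
    rw [reassoc_of% h1]
  · apply Over.OverMorphism.ext
    show t.left ≫ ri ≫ D.ι ≫ pullback.snd g.left f.left = y0.left
    have : t.left ≫ ri = k := by
      rw [← hw0π, ← hkι]
      simp only [Category.assoc] at h2 ⊢
      rw [h2, Category.comp_id]
    rw [reassoc_of% this, reassoc_of% hkι]
    exact pullback.lift_snd _ _ _

end Groth.Agent.CoverGrp25
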