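import Groth.Agent.Lib.CoverGrp25.Lift
import Groth.Agent.Lib.AVCov25.Group
import Groth.Agent.Lib.GrpSmooth19.Basic

/-!
# A finite étale cover of an abelian scheme with connected fibres is a group scheme
-/

open CategoryTheory Limits AlgebraicGeometry MonoidalCategory CartesianMonoidalCategory MonObj

set_option linter.style.haveILetI false
set_option backward.isDefEq.respectTransparency false

namespace Groth.Agent.CoverGrp25

universe u

variable {S : Scheme.{u}} {X Y : Over S} [GrpObj X] [IsProper X.hom] [Flat X.hom]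
  [LocallyOfFinitePresentation X.hom] [GeometricallyReduced X.hom] [GeometricallyConnected Y.hom]
  (f : Y ⟶ X) [IsFinite f.left] [Etale f.left] (eY : 𝟙_ (Over S) ⟶ Y) (he : eY ≫ f = η[X])

include f in
theorem cover_props :
    IsProper Y.hom ∧ Flat Y.hom ∧ LocallyOfFinitePresentation Y.hom := by
  rw [← Over.w f]
  exact ⟨inferInstance, inferInstance, inferInstance⟩

include f in
theorem product_props :
    IsProper (Y ⊗ Y).hom ∧ Flat (Y ⊗ Y).hom ∧ LocallyOfFinitePresentation (Y ⊗ Y).hom ∧
      GeometricallyConnected (Y ⊗ Y).hom := by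
  obtain ⟨_, _, _⟩ := cover_props f
  show IsProper (pullback.fst Y.hom Y.hom ≫ Y.hom) ∧ Flat (pullback.fst Y.hom Y.hom ≫ Y.hom) ∧
    LocallyOfFinitePresentation (pullback.fst Y.hom Y.hom ≫ Y.hom) ∧
      GeometricallyConnected (pullback.fst Y.hom Y.hom ≫ Y.hom)
  exact ⟨inferInstance, inferInstance, inferInstance, GeometricallyConnected.comp _ _⟩

include f in
theorem triple_connected : GeometricallyConnected ((Y ⊗ Y) ⊗ Y).hom := by
  obtain ⟨_, _, _⟩ := cover_props f
  obtain ⟨_, _, _, _⟩ := product_props f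
  show GeometricallyConnected (pullback.fst (Y ⊗ Y).hom Y.hom ≫ (Y ⊗ Y).hom)
  exact GeometricallyConnected.comp _ _

omit [GeometricallyReduced X.hom] [GeometricallyConnected Y.hom] in
theorem smooth_tensor_pullback {K : Type u} [Field K] (σ : Spec (CommRingCat.of K) ⟶ S) (A B : Over S)
    [Smooth ((Over.pullback σ).obj A).hom] [Smooth ((Over.pullback σ).obj B).hom] :
    Smooth ((Over.pullback σ).obj (A ⊗ B)).hom := by
  let F := Over.pullback σ
  let i := Functor.Monoidal.μIso F A B
  rw [← Over.w i.inv]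
  haveI : IsIso i.inv.left := inferInstanceAs (IsIso ((Over.forget _).map i.inv))
  haveI : Smooth (F.obj A ⊗ F.obj B).hom := by
    show Smooth (pullback.fst (F.obj A).hom (F.obj B).hom ≫ (F.obj A).hom)
    infer_instance
  infer_instance

/-- On a geometric fibre the cover is a group, with the given unit. -/
theorem fibre_group {K : Type u} [Field K] [IsAlgClosed K] (σ : Spec (CommRingCat.of K) ⟶ S)
    (he : eY ≫ f = η[X]) :
    Smooth ((Over.pullback σ).obj Y).hom ∧
      letI : GrpObj ((Over.pullback σ).obj X) := Functor.grpObjObj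
      ∃ inst : GrpObj ((Over.pullback σ).obj Y), IsMonHom ((Over.pullback σ).map f) ∧
        (Over.pullback σ).map eY = 1 := by
  obtain ⟨_, _, _⟩ := cover_props f
  let F := Over.pullback σ
  letI : GrpObj (F.obj X) := Functor.grpObjObj
  haveI : IsProper (F.obj X).hom := inferInstanceAs (IsProper (pullback.snd X.hom σ))
  haveI : IsProper (F.obj Y).hom := inferInstanceAs (IsProper (pullback.snd Y.hom σ))
  haveI : IsReduced (F.obj X).left :=
    GeometricallyReduced.geometrically_isReduced (f := X.hom) σ (pullback.fst _ _) (pullback.snd _ _)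
      (IsPullback.of_hasPullback _ _)
  haveI : Smooth (F.obj X).hom := GrpSmooth19.smooth_of_isReduced _
  haveI : IsFinite (F.map f).left := MorphismProperty.overPullbackMap σ f ‹IsFinite f.left›
  haveI : Etale (F.map f).left := MorphismProperty.overPullbackMap σ f ‹Etale f.left›
  have hsm : Smooth (F.obj Y).hom := by
    rw [← Over.w (F.map f)]
    infer_instance
  haveI : ConnectedSpace ↥(F.obj Y).left :=
    GeometricallyConnected.geometrically_connectedSpace (f := Y.hom) σ (pullback.fst _ _) (pullback.snd _ _)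
      (IsPullback.of_hasPullback _ _)
  have he' : (Functor.LaxMonoidal.ε F ≫ F.map eY) ≫ F.map f = η[F.obj X] := by
    rw [Category.assoc, ← F.map_comp, he]
    rfl
  obtain ⟨inst, hhom, hone⟩ := AVCov25.exists_grpObj_one (F.map f) (Functor.LaxMonoidal.ε F ≫ F.map eY) he'
  refine ⟨hsm, inst, hhom, ?_⟩
  letI := inst
  have hone' : η[F.obj Y] = Functor.LaxMonoidal.ε F ≫ F.map eY := hone
  rw [Hom.one_def, hone', toUnit_unique (toUnit _) (Functor.OplaxMonoidal.η F),
    ← Category.assoc, Functor.Monoidal.η_ε, Category.id_comp]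

omit [IsProper X.hom] [Flat X.hom] [LocallyOfFinitePresentation X.hom] [GeometricallyReduced X.hom]
  [GeometricallyConnected Y.hom] [IsFinite f.left] [Etale f.left] in
theorem mul_eq : (f ⊗ₘ f) ≫ μ[X] = (fst Y Y ≫ f) * (snd Y Y ≫ f) := by
  rw [Hom.mul_def]
  congr 1

include he in
/-- The multiplication lifts. -/
theorem exists_mul : ∃ m : Y ⊗ Y ⟶ Y,
    m ≫ f = (fst Y Y ≫ f) * (snd Y Y ≫ f) ∧ lift eY eY ≫ m = eY := by
  obtain ⟨_, _, _, _⟩ := product_props f
  have he' : eY ≫ f = 1 := he.trans (one_eq_one X)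
  refine exists_lift_of_fibres f _ (lift eY eY) eY ?_ (fun K _ _ σ => ?_) fun K _ _ σ => ?_
  · simp [comp_mul, he']
  · haveI := (fibre_group f eY σ he).1
    exact smooth_tensor_pullback σ Y Y
  · letI : GrpObj ((Over.pullback σ).obj X) := Functor.grpObjObj
    obtain ⟨_, inst, hhom, h1⟩ := fibre_group f eY σ he
    letI := inst
    refine ⟨(Over.pullback σ).map (fst Y Y) * (Over.pullback σ).map (snd Y Y), ?_, ?_⟩
    · rw [MonObj.mul_comp, ← Functor.map_comp, ← Functor.map_comp, Functor.map_mul]
    · rw [comp_mul, ← Functor.map_comp, ← Functor.map_comp, lift_fst, lift_snd, h1, _root_.one_mul]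

include he in
/-- The inverse lifts. -/
theorem exists_inv : ∃ i : Y ⟶ Y, i ≫ f = f⁻¹ ∧ eY ≫ i = eY := by
  obtain ⟨_, _, _⟩ := cover_props f
  have he' : eY ≫ f = 1 := he.trans (one_eq_one X)
  refine exists_lift_of_fibres f _ eY eY ?_ (fun K _ _ σ => (fibre_group f eY σ he).1) fun K _ _ σ => ?_
  · simp [GrpObj.comp_inv, he']
  · letI : GrpObj ((Over.pullback σ).obj X) := Functor.grpObjObj
    obtain ⟨_, inst, hhom, h1⟩ := fibre_group f eY σ he
    letI := inst
    refine ⟨(𝟙 ((Over.pullback σ).obj Y))⁻¹, ?_, ?_⟩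
    · rw [GrpObj.inv_comp, Category.id_comp, Functor.map_inv']
    · rw [GrpObj.comp_inv, Category.comp_id, h1, inv_one]

include he in
/-- The group law exists and is unique. -/
theorem existsUnique_grpObj :
    ∃! h : GrpObj Y, h.one = eY ∧ h.mul ≫ f = (f ⊗ₘ f) ≫ μ[X] := by
  obtain ⟨_, _, _, _⟩ := product_props f
  haveI := triple_connected f
  have he' : eY ≫ f = 1 := he.trans (one_eq_one X)
  obtain ⟨m, hm, hme⟩ := exists_mul f eY he
  obtain ⟨i, hi, hie⟩ := exists_inv f eY he
  have hmul : ∀ {T : Over S} (a b : T ⟶ Y), lift a b ≫ m ≫ f = (a ≫ f) * (b ≫ f) := fun a b => by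
    simp [hm, comp_mul]
  have hte : eY ≫ toUnit Y = 𝟙 _ := toUnit_unique _ _
  have hL : lift (toUnit Y ≫ eY) (𝟙 Y) ≫ m = 𝟙 Y := by
    refine eq_of_section f _ _ ?_ eY ?_
    · rw [Category.assoc, hmul]; simp [he']
    · rw [comp_lift_assoc, reassoc_of% hte, Category.comp_id, hme]
  have hR : lift (𝟙 Y) (toUnit Y ≫ eY) ≫ m = 𝟙 Y := by
    refine eq_of_section f _ _ ?_ eY ?_
    · rw [Category.assoc, hmul]; simp [he']
    · rw [comp_lift_assoc, reassoc_of% hte, Category.comp_id, hme]
  have hinv : lift (𝟙 Y) i ≫ m = toUnit Y ≫ eY := by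
    refine eq_of_section f _ _ ?_ eY ?_
    · rw [Category.assoc, hmul, hi, Category.id_comp, mul_inv_cancel, Category.assoc, he', comp_one]
    · rw [comp_lift_assoc, reassoc_of% hte, Category.comp_id, hie, hme]
  have hinv' : lift i (𝟙 Y) ≫ m = toUnit Y ≫ eY := by
    refine eq_of_section f _ _ ?_ eY ?_
    · rw [Category.assoc, hmul, hi, Category.id_comp, inv_mul_cancel, Category.assoc, he', comp_one]
    · rw [comp_lift_assoc, reassoc_of% hte, Category.comp_id, hie, hme]
  let inst : GrpObj Y :=
    { one := eY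
      mul := m
      one_mul := by
        rw [← cancel_epi (λ_ Y).inv, Iso.inv_hom_id, ← hL, ← Category.assoc]
        congr 1
        ext1 <;> simp
      mul_one := by
        rw [← cancel_epi (ρ_ Y).inv, Iso.inv_hom_id, ← hR, ← Category.assoc]
        congr 1
        ext1 <;> simp
      mul_assoc := by
        refine eq_of_section f _ _ ?_ (lift (lift eY eY) eY) ?_
        · simp only [Category.assoc]
          rw [show m ≫ f = (fst Y Y ≫ f) * (snd Y Y ≫ f) from hm]
          simp only [comp_mul, whiskerRight_fst_assoc, whiskerRight_snd_assoc, whiskerLeft_fst_assoc,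
            whiskerLeft_snd_assoc, Category.assoc, hm, associator_hom_fst_assoc,
            associator_hom_snd_fst_assoc, associator_hom_snd_snd_assoc]
          exact _root_.mul_assoc _ _ _
        · simp [hme]
      inv := i
      left_inv := hinv'
      right_inv := hinv }
  refine ⟨inst, ⟨rfl, hm.trans (mul_eq f).symm⟩, fun h' hh' => GrpObj.ext _ _ (MonObj.ext _ _ ?_)⟩
  obtain ⟨h1, h2⟩ := hh'
  have h3 : lift eY eY ≫ h'.mul = eY := by
    letI := h'
    have : eY = 1 := h1.symm.trans (one_eq_one Y)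
    rw [show lift eY eY ≫ h'.mul = eY * eY from (Hom.mul_def _ _).symm, this, _root_.one_mul]
  exact eq_of_section f _ _ (h2.trans ((mul_eq f).trans hm.symm)) (lift eY eY) (h3.trans hme.symm)

end Groth.Agent.CoverGrp25
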